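import Mathlib
import Cfsg.Agent.Char.Gen
import Cfsg.Agent.Char.Ortho
import Cfsg.Agent.Char.Induced

/-!
# A wreath product of an M-group with a group of prime order is an M-group

The regular character of the wreath product is a combination of inductions of products of monomial
characters of the factors; the non-constant products induce to irreducible characters, the constant
ones split into the monomial extensions.
-/

namespace Cfsg.Agent.MGroupEmbed

open Cfsg.Agent.Char ComplexConjugate

/-- Every irreducible character is induced from a linear one. -/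
def IsMonomialGroup (M : Type*) [Group M] [Fintype M] : Prop :=
  ∀ χ : M → ℂ, IsIrrCharacter M χ →
    ∃ (H : Subgroup M) (lam : H →* ℂˣ), χ = indFun H (fun h => (lam h : ℂ))

/-- A character with irreducible pullback is irreducible. -/
theorem isIrr_of_comp {A B : Type*} [Group A] [Finite A] [Group B] [Finite B] (f : A →* B)
    {Ψ : B → ℂ} (hΨ : IsCharacter B Ψ) (h : IsIrrCharacter A (fun a => Ψ (f a))) :
    IsIrrCharacter B Ψ := by
  have := Fintype.ofFinite A
  have := Fintype.ofFinite B
  have h0 : Ψ ≠ 0 := fun e => IsIrr.one_ne_zero h (congrFun e _)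
  obtain ⟨ψ, hψ⟩ := IsChar.exists_constituent hΨ h0
  have hR := IsChar.sub_constituent hΨ ψ.2 hψ
  have hψA : IsCharacter A (fun a => (ψ : B → ℂ) (f a)) :=
    isCharacter_comp f (IsIrr.isCharacter ψ.2)
  obtain ⟨η, hη⟩ := IsChar.exists_constituent hψA fun e =>
    IsIrr.one_ne_zero ψ.2 (by simpa using congrFun e 1)
  have hRA : IsCharacter A (fun a => (Ψ - (ψ : B → ℂ)) (f a)) := isCharacter_comp f hR
  have hne : classInner (fun a => Ψ (f a)) (η : A → ℂ) ≠ 0 := by
    obtain ⟨a, ha⟩ := classInner_isCharacter_eq_natCast hψA (IsIrr.isCharacter η.2)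
    obtain ⟨b, hb⟩ := classInner_isCharacter_eq_natCast hRA (IsIrr.isCharacter η.2)
    have e : (fun a => Ψ (f a)) =
        (fun a => (ψ : B → ℂ) (f a)) + fun a => (Ψ - (ψ : B → ℂ)) (f a) := by
      funext a; simp
    rw [e, classInner_add_left, ha, hb]
    rw [ha] at hη
    have ha0 : a ≠ 0 := fun h => hη (by rw [h, Nat.cast_zero])
    exact_mod_cast (show a + b ≠ 0 by omega)
  have heq : (fun a => Ψ (f a)) = (η : A → ℂ) := by
    by_contra hn
    exact hne (classInner_irr_ne h η.2 hn)
  have h1 := IsChar.constituent_degree_le hψA η.2 hη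
  rw [← heq] at h1
  simp only [map_one] at h1
  obtain ⟨r, hr⟩ := IsChar.degree hR
  simp only [Pi.sub_apply] at hr
  have hr0 : r = 0 := by
    have h2 : (Ψ 1).re - ((ψ : B → ℂ) 1).re = r := by rw [← Complex.sub_re, hr]; simp
    have : (r : ℝ) ≤ 0 := by linarith
    exact_mod_cast le_antisymm this (Nat.cast_nonneg r)
  have hz : Ψ - (ψ : B → ℂ) = 0 := (IsChar.eq_zero_iff hR).2 (by simp [hr, hr0])
  rw [sub_eq_zero.1 hz]
  exact ψ.2

variable {M : Type*} [Group M] [Fintype M] {p : ℕ} [hp : Fact p.Prime]

set_option hygiene false in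
local notation "Q" => Multiplicative (ZMod p)

/-- Functions on the cyclic group, seen in the wreath product. -/
def base : (Q → M) →* RegularWreathProduct M Q where
  toFun b := ⟨b, 1⟩
  map_one' := rfl
  map_mul' a b := by ext <;> simp

omit [Fintype M] in
theorem conj_base (b : Q → M) (x : RegularWreathProduct M Q) :
    x⁻¹ * base b * x =
      base fun t => (x.left (x.right * t))⁻¹ * b (x.right * t) * x.left (x.right * t) := by
  ext <;> simp [base]

omit [Fintype M] in
theorem conj_right (g x : RegularWreathProduct M Q) : (x⁻¹ * g * x).right = g.right := by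
  simp [mul_comm x.right⁻¹]

variable [Fintype (RegularWreathProduct M Q)]

theorem sum_wreath (F : RegularWreathProduct M Q → ℂ) :
    ∑ x, F x = ∑ s : Q, ∑ a : Q → M, F ⟨a, s⟩ := by
  rw [← Fintype.sum_prod_type_right (f := fun z : (Q → M) × Q => F ⟨z.1, z.2⟩)]
  exact Fintype.sum_equiv (RegularWreathProduct.equivProd M Q) _ _ fun x => rfl

theorem card_wreath :
    (Nat.card (RegularWreathProduct M Q) : ℂ) = (Fintype.card M : ℂ) ^ p * p := by
  rw [RegularWreathProduct.card, Nat.card_eq_fintype_card, Nat.card_eq_fintype_card (α := Q)]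
  simp [ZMod.card]

/-- A class function supported on the base is determined by its values there. -/
theorem classInner_base (F F' : RegularWreathProduct M Q → ℂ)
    (hF : ∀ g, g.right ≠ 1 → F g = 0) :
    classInner F F' = (Nat.card (RegularWreathProduct M Q) : ℂ)⁻¹ *
      ∑ b : Q → M, F (base b) * conj (F' (base b)) := by
  rw [classInner, sum_wreath]
  congr 1
  exact Finset.sum_eq_single 1 (fun s _ hs => Finset.sum_eq_zero fun a _ => by
    rw [hF _ hs, zero_mul]) (fun h => absurd (Finset.mem_univ _) h)

section Data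

variable (H : Q → Subgroup M) (lam : ∀ q, H q →* ℂˣ)

/-- The base subgroup defined by subgroups in each coordinate. -/
def baseSub : Subgroup (RegularWreathProduct M Q) :=
  (Subgroup.pi Set.univ H).map base

omit [Fintype M] [Fintype (RegularWreathProduct M Q)] in
theorem mem_baseSub {w : RegularWreathProduct M Q} :
    w ∈ baseSub H ↔ w.right = 1 ∧ ∀ q, w.left q ∈ H q := by
  constructor
  · rintro ⟨b, hb, rfl⟩
    exact ⟨rfl, fun q => hb q (Set.mem_univ q)⟩
  · rintro ⟨h1, h2⟩
    exact ⟨w.left, fun q _ => h2 q, RegularWreathProduct.ext rfl h1.symm⟩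

/-- The product of the linear characters. -/
def baseHom : baseSub H →* ℂˣ where
  toFun w := ∏ q, lam q ⟨w.1.left q, ((mem_baseSub H).1 w.2).2 q⟩
  map_one' := Finset.prod_eq_one fun q _ => map_one (lam q)
  map_mul' v w := by
    rw [← Finset.prod_mul_distrib]
    refine Finset.prod_congr rfl fun q _ => ?_
    rw [← map_mul]
    congr 1
    apply Subtype.ext
    simp [((mem_baseSub H).1 v.2).1]

/-- The induced character. -/
noncomputable def baseInd : RegularWreathProduct M Q → ℂ :=
  indFun (baseSub H) (fun w => (baseHom H lam w : ℂ))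

omit [Fintype M] [Fintype (RegularWreathProduct M Q)] in
theorem extend_base (b : Q → M) :
    extendByZero (baseSub H) (fun w => (baseHom H lam w : ℂ)) (base b) =
      ∏ t, extendByZero (H t) (fun h => (lam t h : ℂ)) (b t) := by
  classical
  by_cases hb : ∀ t, b t ∈ H t
  · rw [extendByZero_of_mem _ _ ((mem_baseSub H).2 ⟨rfl, hb⟩)]
    simp only [baseHom, MonoidHom.coe_mk, OneHom.coe_mk, Units.coe_prod]
    exact Finset.prod_congr rfl fun t _ =>
      (extendByZero_of_mem (H t) (fun h => (lam t h : ℂ)) (hb t)).symm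
  · rw [extendByZero_of_not_mem _ _ fun h => hb ((mem_baseSub H).1 h).2]
    push Not at hb
    obtain ⟨t, ht⟩ := hb
    exact (Finset.prod_eq_zero (Finset.mem_univ t)
      (extendByZero_of_not_mem (H t) (fun h => (lam t h : ℂ)) ht)).symm

omit [Fintype M] [Fintype (RegularWreathProduct M Q)] in
theorem card_baseSub : Nat.card (baseSub H) = ∏ t, Nat.card (H t) := by
  rw [← Nat.card_pi]
  exact Nat.card_congr
    { toFun := fun w t => ⟨w.1.left t, ((mem_baseSub H).1 w.2).2 t⟩
      invFun := fun b => ⟨base fun t => (b t : M), (mem_baseSub H).2 ⟨rfl, fun t => (b t).2⟩⟩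
      left_inv := fun w => Subtype.ext (RegularWreathProduct.ext rfl ((mem_baseSub H).1 w.2).1.symm)
      right_inv := fun b => rfl }

theorem baseInd_base (b : Q → M) :
    baseInd H lam (base b) = ∑ s, ∏ t, indFun (H t) (fun h => (lam t h : ℂ)) (b (s * t)) := by
  classical
  simp only [baseInd, indFun_apply, conj_base, extend_base, card_baseSub, sum_wreath,
    Finset.mul_sum]
  refine Finset.sum_congr rfl fun s _ => ?_
  simp only [Finset.prod_mul_distrib, Finset.prod_const, ← Finset.mul_sum, Nat.cast_prod,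
    Finset.prod_inv_distrib]
  congr 1
  rw [Fintype.prod_sum]
  exact Fintype.sum_equiv ((Equiv.mulLeft s).symm.arrowCongr (Equiv.refl M)) _ _ fun a => rfl

theorem baseInd_off {g : RegularWreathProduct M Q} (hg : g.right ≠ 1) : baseInd H lam g = 0 :=
  indFun_apply_eq_zero (baseSub H) _ fun x h => hg (by
    have := ((mem_baseSub H).1 h).1
    rwa [conj_right] at this)

theorem isCharacter_baseInd : IsCharacter _ (baseInd H lam) :=
  isCharacter_indFun (baseSub H) (isCharacter_hom (baseHom H lam))

/-- Non-constant families induce to irreducible characters. -/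
theorem isIrr_baseInd (f : Q → IrrCharacter M)
    (hf : ∀ t, (f t : M → ℂ) = indFun (H t) (fun h => (lam t h : ℂ)))
    (hne : ∀ s : Q, (∀ t, f (s * t) = f t) → s = 1) :
    IsIrrCharacter _ (baseInd H lam) := by
  classical
  rw [isIrr_iff_norm_one (isCharacter_baseInd H lam),
    classInner_base _ _ fun g hg => baseInd_off H lam hg]
  simp only [baseInd_base, ← hf, map_sum, map_prod, Finset.mul_sum, Finset.sum_mul]
  have key : ∀ s s' : Q, ∑ b : Q → M,
      (∏ t, (f t : M → ℂ) (b (s * t))) * ∏ t, conj ((f t : M → ℂ) (b (s' * t))) =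
        if s = s' then (Fintype.card M : ℂ) ^ p else 0 := by
    intro s s'
    have h1 : ∀ b : Q → M, (∏ t, (f t : M → ℂ) (b (s * t))) *
        ∏ t, conj ((f t : M → ℂ) (b (s' * t))) =
          ∏ u, (f (s⁻¹ * u) : M → ℂ) (b u) * conj ((f (s'⁻¹ * u) : M → ℂ) (b u)) := by
      intro b
      rw [Finset.prod_mul_distrib]
      congr 1
      · exact Fintype.prod_equiv (Equiv.mulLeft s) _ _ fun t => by simp
      · exact Fintype.prod_equiv (Equiv.mulLeft s') _ _ fun t => by simp
    have h2 : ∀ φ ψ : IrrCharacter M, ∑ m, (φ : M → ℂ) m * conj ((ψ : M → ℂ) m) =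
        if φ = ψ then (Fintype.card M : ℂ) else 0 := by
      intro φ ψ
      have h3 := classInner_irrChar φ ψ
      rw [classInner, Nat.card_eq_fintype_card] at h3
      have h4 : (Fintype.card M : ℂ) ≠ 0 := Nat.cast_ne_zero.2 Fintype.card_ne_zero
      rw [inv_mul_eq_iff_eq_mul₀ h4] at h3
      rw [h3]
      split_ifs <;> simp
    rw [Finset.sum_congr rfl fun b _ => h1 b, ← Fintype.prod_sum (fun u m =>
      (f (s⁻¹ * u) : M → ℂ) m * conj ((f (s'⁻¹ * u) : M → ℂ) m))]
    simp only [h2]
    by_cases hs : s = s'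
    · subst hs
      simp [ZMod.card]
    · rw [if_neg hs]
      obtain ⟨u, hu⟩ : ∃ u, f (s⁻¹ * u) ≠ f (s'⁻¹ * u) := by
        by_contra h
        push Not at h
        refine hs ?_
        have := hne (s'⁻¹ * s) fun t => by
          rw [mul_assoc, ← h (s * t), inv_mul_cancel_left]
        exact (inv_mul_eq_one.1 this).symm
      exact Finset.prod_eq_zero (Finset.mem_univ u) (if_neg hu)
  rw [Finset.sum_comm]
  have h5 : ∀ s' : Q, (∑ b : Q → M, ∑ s : Q,
      (Nat.card (RegularWreathProduct M Q) : ℂ)⁻¹ * ((∏ t, (f t : M → ℂ) (b (s * t))) *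
        ∏ t, conj ((f t : M → ℂ) (b (s' * t))))) =
      (Nat.card (RegularWreathProduct M Q) : ℂ)⁻¹ * (Fintype.card M : ℂ) ^ p := by
    intro s'
    rw [Finset.sum_comm]
    simp only [← Finset.mul_sum, key]
    simp
  rw [Finset.sum_congr rfl fun s' _ => h5 s', Finset.sum_const, Finset.card_univ, card_wreath,
    nsmul_eq_mul]
  have : (Fintype.card M : ℂ) ≠ 0 := Nat.cast_ne_zero.2 Fintype.card_ne_zero
  have : (p : ℂ) ≠ 0 := Nat.cast_ne_zero.2 hp.out.ne_zero
  simp only [Fintype.card_multiplicative, ZMod.card]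
  field_simp

end Data

section Const

variable (H₀ : Subgroup M) (lam₀ : H₀ →* ℂˣ)

/-- The subgroup for a constant family. -/
def constSub : Subgroup (RegularWreathProduct M Q) where
  carrier := {w | ∀ q, w.left q ∈ H₀}
  one_mem' q := H₀.one_mem
  mul_mem' := fun {a b} ha hb q => H₀.mul_mem (ha q) (hb _)
  inv_mem' := fun {a} ha q => H₀.inv_mem (ha _)

/-- The linear character on `constSub`. -/
noncomputable def constHom (j : ZMod p) : constSub (p := p) H₀ →* ℂˣ where
  toFun w := Units.mk0 (ZMod.stdAddChar (w.1.right.toAdd * j)) (by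
    intro h
    have h1 := (ZMod.stdAddChar (N := p)).map_zero_eq_one
    rw [← add_neg_cancel (w.1.right.toAdd * j), AddChar.map_add_eq_mul, h, zero_mul] at h1
    exact zero_ne_one h1) * ∏ q, lam₀ ⟨w.1.left q, w.2 q⟩
  map_one' := by
    have h1 : ∀ q : Q, lam₀ ⟨(1 : RegularWreathProduct M Q).left q, H₀.one_mem⟩ = 1 :=
      fun q => map_one lam₀
    refine (congrArg₂ (· * ·) ?_ (Finset.prod_eq_one fun q _ => h1 q)).trans (mul_one 1)
    ext
    simp
  map_mul' v w := by
    rw [mul_mul_mul_comm]
    congr 1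
    · ext
      simp [add_mul, AddChar.map_add_eq_mul]
    · rw [show (∏ q, lam₀ ⟨w.1.left q, w.2 q⟩) =
          ∏ q, lam₀ ⟨w.1.left (v.1.right⁻¹ * q), w.2 _⟩ from
        Fintype.prod_equiv (Equiv.mulLeft v.1.right) _ _ fun q => by
          congr 2; simp, ← Finset.prod_mul_distrib]
      refine Finset.prod_congr rfl fun q _ => ?_
      rw [← map_mul]
      rfl

/-- The monomial extensions. -/
noncomputable def constInd (j : ZMod p) : RegularWreathProduct M Q → ℂ :=
  indFun (constSub H₀) (fun w => (constHom H₀ lam₀ j w : ℂ))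

omit [Fintype M] [Fintype (RegularWreathProduct M Q)] in
theorem card_constSub :
    Nat.card (constSub (p := p) H₀) = Nat.card H₀ ^ p * p := by
  have e : constSub (p := p) H₀ ≃ (Q → H₀) × Q :=
    { toFun := fun w => (fun q => ⟨w.1.left q, w.2 q⟩, w.1.right)
      invFun := fun z => ⟨⟨fun q => (z.1 q : M), z.2⟩, fun q => (z.1 q).2⟩
      left_inv := fun w => rfl
      right_inv := fun z => rfl }
  rw [Nat.card_congr e, Nat.card_prod, Nat.card_fun]
  simp [Nat.card_eq_fintype_card, ZMod.card]

theorem constInd_base (j : ZMod p) (b : Q → M) :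
    constInd H₀ lam₀ j (base b) = ∏ t, indFun H₀ (fun h => (lam₀ h : ℂ)) (b t) := by
  classical
  have hext : ∀ c : Q → M,
      extendByZero (constSub H₀) (fun w => (constHom H₀ lam₀ j w : ℂ)) (base c) =
        ∏ t, extendByZero H₀ (fun h => (lam₀ h : ℂ)) (c t) := by
    intro c
    by_cases hc : ∀ t, c t ∈ H₀
    · rw [extendByZero_of_mem (constSub H₀) _ (show base c ∈ constSub H₀ from hc)]
      simp only [constHom, MonoidHom.coe_mk, OneHom.coe_mk, Units.val_mul, Units.coe_prod,
        Units.val_mk0]
      rw [show ((base c).right : Q).toAdd * j = 0 by simp [base], AddChar.map_zero_eq_one, one_mul]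
      exact Finset.prod_congr rfl fun t _ =>
        (extendByZero_of_mem H₀ (fun h => (lam₀ h : ℂ)) (hc t)).symm
    · rw [extendByZero_of_not_mem (constSub H₀) _ (show base c ∉ constSub H₀ from hc)]
      push Not at hc
      obtain ⟨t, ht⟩ := hc
      exact (Finset.prod_eq_zero (Finset.mem_univ t)
        (extendByZero_of_not_mem H₀ (fun h => (lam₀ h : ℂ)) ht)).symm
  simp only [constInd, indFun_apply, conj_base, hext, card_constSub, sum_wreath]
  have h1 : ∀ s : Q, ∑ a : Q → M, ∏ t,
      extendByZero H₀ (fun h => (lam₀ h : ℂ)) ((a (s * t))⁻¹ * b (s * t) * a (s * t)) =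
        ∏ u, ∑ m : M, extendByZero H₀ (fun h => (lam₀ h : ℂ)) (m⁻¹ * b u * m) := by
    intro s
    rw [Fintype.prod_sum]
    refine Finset.sum_congr rfl fun a _ => ?_
    exact Fintype.prod_equiv (Equiv.mulLeft s) _ _ fun t => rfl
  rw [Finset.sum_congr rfl fun s _ => h1 s, Finset.sum_const, Finset.card_univ, nsmul_eq_mul,
    Finset.prod_mul_distrib, Finset.prod_const, Finset.card_univ]
  simp only [Fintype.card_multiplicative, ZMod.card, inv_pow]
  push_cast
  have : (p : ℂ) ≠ 0 := Nat.cast_ne_zero.2 hp.out.ne_zero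
  field_simp

theorem isIrr_constInd (j : ZMod p)
    (h : IsIrrCharacter M (indFun H₀ (fun h => (lam₀ h : ℂ)))) :
    IsIrrCharacter _ (constInd (p := p) H₀ lam₀ j) := by
  classical
  have hc : IsCharacter _ (constInd (p := p) H₀ lam₀ j) :=
    isCharacter_indFun (constSub H₀) (isCharacter_hom (constHom H₀ lam₀ j))
  refine isIrr_of_comp base hc ?_
  rw [isIrr_iff_norm_one (isCharacter_comp base hc)]
  simp only [classInner, constInd_base, map_prod, ← Finset.prod_mul_distrib]
  rw [← Fintype.prod_sum (fun _ m => indFun H₀ (fun h => (lam₀ h : ℂ)) m *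
    conj (indFun H₀ (fun h => (lam₀ h : ℂ)) m))]
  have h1 := classInner_irr_self h
  rw [classInner, Nat.card_eq_fintype_card] at h1
  have h4 : (Fintype.card M : ℂ) ≠ 0 := Nat.cast_ne_zero.2 Fintype.card_ne_zero
  rw [inv_mul_eq_iff_eq_mul₀ h4, mul_one] at h1
  rw [h1, Finset.prod_const, Nat.card_fun]
  simp only [Nat.card_eq_fintype_card, Finset.card_univ]
  push_cast
  exact inv_mul_cancel₀ (pow_ne_zero _ h4)

theorem sum_constInd :
    ∑ j, constInd (p := p) H₀ lam₀ j = baseInd (fun _ => H₀) (fun _ => lam₀) := by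
  classical
  funext g
  rw [Finset.sum_apply]
  by_cases hg : g.right = 1
  · obtain ⟨b, rfl⟩ : ∃ b, g = base b := ⟨g.left, RegularWreathProduct.ext rfl hg⟩
    simp only [constInd_base, baseInd_base, Finset.sum_const, Finset.card_univ]
    rw [Finset.sum_congr rfl fun (s : Q) _ => (Fintype.prod_equiv (Equiv.mulLeft s)
      (fun t => indFun H₀ (fun h => (lam₀ h : ℂ)) (b (s * t)))
      (fun t => indFun H₀ (fun h => (lam₀ h : ℂ)) (b t)) fun t => rfl), Finset.sum_const]
    simp [ZMod.card]
  · rw [baseInd_off _ _ hg]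
    simp only [constInd, indFun_apply, ← Finset.mul_sum]
    rw [Finset.sum_comm, Finset.sum_eq_zero, mul_zero]
    intro x _
    by_cases hx : x⁻¹ * g * x ∈ constSub (p := p) H₀
    · simp only [extendByZero_of_mem _ _ hx, constHom, MonoidHom.coe_mk, OneHom.coe_mk,
        Units.val_mul, Units.val_mk0, ← Finset.sum_mul, conj_right]
      have h0 : g.right.toAdd ≠ 0 := fun h => hg (Multiplicative.toAdd.injective h)
      simp only [mul_comm g.right.toAdd]
      rw [AddChar.sum_mulShift g.right.toAdd (ZMod.isPrimitive_stdAddChar p), if_neg h0]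
      simp
    · simp [extendByZero_of_not_mem _ _ hx]

end Const

/-- **Dade.** The wreath product with a group of prime order of an M-group is an M-group. -/
theorem isMonomialGroup_wreath (hM : IsMonomialGroup M) :
    IsMonomialGroup (RegularWreathProduct M Q) := by
  classical
  intro χ hχ
  choose H lam hlam using fun φ : IrrCharacter M => hM φ φ.2
  by_contra hno
  have horth : ∀ (f : Q → IrrCharacter M),
      classInner (baseInd (fun t => H (f t)) fun t => lam (f t)) χ = 0 := by
    intro f
    by_cases hc : ∀ s t : Q, f (s * t) = f t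
    · have hf : f = fun _ => f 1 := funext fun t => by simpa using hc t 1
      rw [hf, ← sum_constInd, classInner_sum_left]
      refine Finset.sum_eq_zero fun j _ => classInner_irr_ne ?_ hχ fun e => hno ⟨_, _, e.symm⟩
      exact isIrr_constInd _ _ _ (hlam (f 1) ▸ (f 1).2)
    · refine classInner_irr_ne (isIrr_baseInd _ _ f (fun t => hlam (f t)) fun s hs => ?_) hχ
        fun e => hno ⟨_, _, e.symm⟩
      by_contra hs1
      apply hc
      have hpow : ∀ n : ℕ, ∀ t, f (s ^ n * t) = f t := by
        intro n
        induction n with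
        | zero => simp
        | succ n ih => intro t; rw [pow_succ', mul_assoc, hs, ih]
      intro s' t
      obtain ⟨n, rfl⟩ : ∃ n : ℕ, s ^ n = s' := by
        refine ⟨(s'.toAdd * (s.toAdd)⁻¹).val, Multiplicative.toAdd.injective ?_⟩
        have h0 : s.toAdd ≠ 0 := fun h => hs1 (Multiplicative.toAdd.injective h)
        rw [toAdd_pow, nsmul_eq_mul, ZMod.natCast_zmod_val, mul_assoc, inv_mul_cancel₀ h0, mul_one]
      exact hpow n t
  have hreg : ∀ g : RegularWreathProduct M Q,
      ∑ f : Q → IrrCharacter M, (∏ t, (f t : M → ℂ) 1) *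
        baseInd (fun t => H (f t)) (fun t => lam (f t)) g =
      if g = 1 then (Nat.card (RegularWreathProduct M Q) : ℂ) else 0 := by
    intro g
    by_cases hg : g.right = 1
    · obtain ⟨b, rfl⟩ : ∃ b, g = base b := ⟨g.left, RegularWreathProduct.ext rfl hg⟩
      simp only [baseInd_base, ← hlam, Finset.mul_sum, ← Finset.prod_mul_distrib]
      rw [Finset.sum_comm]
      have h1 : ∀ s : Q, ∑ f : Q → IrrCharacter M,
          ∏ t, (f t : M → ℂ) 1 * (f t : M → ℂ) (b (s * t)) =
            if b = 1 then (Fintype.card M : ℂ) ^ p else 0 := by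
        intro s
        rw [← Fintype.prod_sum (fun t (φ : IrrCharacter M) => (φ : M → ℂ) 1 * (φ : M → ℂ) (b (s * t)))]
        simp only [regular_eq_sum, Nat.card_eq_fintype_card]
        by_cases hb : b = 1
        · simp [hb, ZMod.card]
        · rw [if_neg hb]
          obtain ⟨u, hu⟩ := Function.ne_iff.1 hb
          exact Finset.prod_eq_zero (Finset.mem_univ (s⁻¹ * u)) (if_neg (by simpa using hu))
      rw [Finset.sum_congr rfl fun s _ => h1 s, Finset.sum_const, Finset.card_univ]
      have hiff : base b = 1 ↔ b = 1 :=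
        ⟨fun h => congrArg RegularWreathProduct.left h, fun h => by rw [h, map_one]⟩
      simp only [hiff]
      split_ifs
      · rw [card_wreath]; simp [ZMod.card, mul_comm]
      · simp
    · rw [if_neg fun h => hg (by rw [h]; rfl)]
      exact Finset.sum_eq_zero fun f _ => by rw [baseInd_off _ _ hg, mul_zero]
  have h1 : classInner (fun g : RegularWreathProduct M Q =>
      if g = 1 then (Nat.card (RegularWreathProduct M Q) : ℂ) else 0) χ = conj (χ 1) := by
    simp only [classInner, ite_mul, zero_mul, Finset.sum_ite_eq', Finset.mem_univ, if_true]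
    rw [← mul_assoc, inv_mul_cancel₀ card_ne_zero, one_mul]
  have h2 : (fun g : RegularWreathProduct M Q =>
      if g = 1 then (Nat.card (RegularWreathProduct M Q) : ℂ) else 0) =
      ∑ f : Q → IrrCharacter M, (∏ t, (f t : M → ℂ) 1) •
        baseInd (fun t => H (f t)) (fun t => lam (f t)) := by
    funext g
    rw [Finset.sum_apply, ← hreg]
    rfl
  rw [h2, classInner_sum_left, Finset.sum_eq_zero fun f _ => by
    rw [classInner_smul_left, horth, mul_zero]] at h1
  exact IsIrr.one_ne_zero hχ (by simpa using h1.symm)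

end Cfsg.Agent.MGroupEmbed
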