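import Mathlib
import Cfsg.Agent.MGroupEmbed.Wreath
import Cfsg.Agent.Char.Linear

/-!
# Solvable groups embed in M-groups
-/

namespace Cfsg.Agent.MGroupEmbed

open Cfsg.Agent.Char

universe u

/-- Kaloujnine and Krasner: an extension embeds in the regular wreath product. -/
theorem exists_wreath_embedding {G M Q : Type*} [Group G] [Group M] [Group Q] (π : G →* Q)
    (hπ : Function.Surjective π) (e : π.ker →* M) (he : Function.Injective e) :
    ∃ f : G →* RegularWreathProduct M Q, Function.Injective f := by
  choose σ hσ using hπ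
  have hmem : ∀ g t, (σ t)⁻¹ * g * σ ((π g)⁻¹ * t) ∈ π.ker := fun g t => by
    simp [MonoidHom.mem_ker, hσ, mul_assoc]
  let f : G →* RegularWreathProduct M Q :=
    MonoidHom.mk' (fun g => ⟨fun t => e ⟨_, hmem g t⟩, π g⟩) fun g h => by
      refine RegularWreathProduct.ext (funext fun t => ?_) (map_mul π g h)
      show e _ = e _ * e _
      rw [← map_mul]
      congr 1
      apply Subtype.ext
      simp [mul_assoc]
  refine ⟨f, (injective_iff_map_eq_one f).2 fun g hg => ?_⟩
  have h1 : π g = 1 := congrArg RegularWreathProduct.right hg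
  have h2 : e ⟨_, hmem g 1⟩ = 1 := congrFun (congrArg RegularWreathProduct.left hg) 1
  have h3 : (σ 1)⁻¹ * g * σ ((π g)⁻¹ * 1) = 1 :=
    congrArg Subtype.val (he (h2.trans (map_one e).symm))
  rw [h1, inv_one, one_mul] at h3
  simpa using conj_eq_one_iff.1 (show (σ 1)⁻¹ * g * ((σ 1)⁻¹)⁻¹ = 1 by rwa [inv_inv])

theorem isMonomialGroup_of_subsingleton {M : Type*} [Group M] [Fintype M] [Subsingleton M] :
    IsMonomialGroup M := by
  intro χ hχ
  obtain ⟨f, hf⟩ := IsChar.exists_hom (IsIrr.isCharacter hχ) (by
    have h := classInner_irr_self hχ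
    obtain ⟨n, hn0, hn⟩ := IsIrr.degree hχ
    rw [classInner, Fintype.sum_subsingleton _ 1, Nat.card_unique, hn] at h
    simp only [Nat.cast_one, inv_one, one_mul, map_natCast] at h
    have : n * n = 1 := by exact_mod_cast h
    rw [hn, show n = 1 by nlinarith, Nat.cast_one])
  refine ⟨⊤, f.comp (Subgroup.subtype ⊤), funext fun g => ?_⟩
  rw [indFun_top _ (fun a b => by simp [mul_comm]) g]
  exact congrFun hf g

theorem exists_prime_quotient (G : Type u) [Group G] [Finite G] [Nontrivial G]
    [Group.IsSolvable G] :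
    ∃ p, p.Prime ∧ ∃ π : G →* Multiplicative (ZMod p), Function.Surjective π := by
  classical
  have hne : commutator G ≠ ⊤ := ne_of_lt (Group.IsSolvable.commutator_lt_top_of_nontrivial G)
  let A := Abelianization G
  have hA : Nontrivial A := QuotientGroup.nontrivial_iff.2 hne
  obtain ⟨K, hK, -⟩ := (eq_top_or_exists_le_coatom (⊥ : Subgroup A)).resolve_left bot_ne_top
  have : Nontrivial (A ⧸ K) := QuotientGroup.nontrivial_iff.2 hK.1
  have hK' : IsSimpleGroup (A ⧸ K) := ⟨fun L _ => by
    have hsurj := QuotientGroup.mk'_surjective K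
    by_cases h : K < L.comap (QuotientGroup.mk' K)
    · right
      rw [← Subgroup.map_comap_eq_self_of_surjective hsurj L, hK.2 _ h, ← MonoidHom.range_eq_map,
        MonoidHom.range_eq_top.2 hsurj]
    · left
      have h1 : K ≤ L.comap (QuotientGroup.mk' K) := fun x hx => by
        rw [Subgroup.mem_comap, QuotientGroup.mk'_apply, (QuotientGroup.eq_one_iff x).2 hx]
        exact L.one_mem
      have h2 := eq_of_le_of_not_lt h1 h
      rw [← Subgroup.map_comap_eq_self_of_surjective hsurj L, ← h2, QuotientGroup.map_mk'_self]⟩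
  have : IsCyclic (A ⧸ K) := IsSimpleGroup.isCyclic
  have hp : (Nat.card (A ⧸ K)).Prime := IsSimpleGroup.prime_card
  let φ : A ⧸ K ≃* Multiplicative (ZMod (Nat.card (A ⧸ K))) :=
    (zmodCyclicMulEquiv (G := A ⧸ K) inferInstance).symm
  refine ⟨Nat.card (A ⧸ K), hp, (φ.toMonoidHom.comp (QuotientGroup.mk' K)).comp
    Abelianization.of, ?_⟩
  exact (φ.surjective.comp (QuotientGroup.mk'_surjective K)).comp
    (fun x => QuotientGroup.mk_surjective x : Function.Surjective (Abelianization.of : G → A))

theorem exists_monomial_embedding : ∀ (n : ℕ) (G : Type u) [Group G] [Finite G],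
    Group.IsSolvable G → Nat.card G = n →
    ∃ (M : Type u) (_ : Group M) (_ : Fintype M), IsMonomialGroup M ∧
      ∃ f : G →* M, Function.Injective f := by
  intro n
  induction n using Nat.strong_induction_on with
  | _ n ih =>
  intro G _ _ hsolv hn
  rcases subsingleton_or_nontrivial G with hG | hG
  · exact ⟨G, inferInstance, Fintype.ofFinite G, @isMonomialGroup_of_subsingleton G _ (_) _,
      MonoidHom.id G, Function.injective_id⟩
  obtain ⟨p, hp, π, hπ⟩ := exists_prime_quotient G
  have : Fact p.Prime := ⟨hp⟩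
  have hlt : Nat.card π.ker < n := by
    rw [← hn, ← π.ker.card_mul_index, Subgroup.index_ker, MonoidHom.range_eq_top.2 hπ,
      Subgroup.card_top]
    refine lt_mul_right Nat.card_pos ?_
    rw [Nat.card_congr Multiplicative.toAdd, Nat.card_zmod]
    exact hp.one_lt
  obtain ⟨M, gM, fM, hM, e, he⟩ := ih _ hlt π.ker inferInstance rfl
  let fW : Fintype (RegularWreathProduct M (Multiplicative (ZMod p))) := Fintype.ofFinite _
  exact ⟨_, inferInstance, fW, isMonomialGroup_wreath hM, exists_wreath_embedding π hπ e he⟩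

end Cfsg.Agent.MGroupEmbed
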